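import Cfsg.Agent.H334.O8.CentZ

/-!
# `Ω₈⁺(2)`: every non-trivial element is a product of two elements of order seven (helper334)

* `pair7`;
* `prod_seven` : in `C(z) = 2^(1+8).Ω⁺(8,2)` every element outside `Q` is `a * b` with `a ^ (7 * 2 ^ k) = 1 = b ^ (7 * 2 ^ k)`.
-/

set_option autoImplicit false

namespace Cfsg.Agent.H334.O8

open Cfsg Cfsg.Agent.Co2Type.Quad
open Cfsg.Agent.StdO8.Model Cfsg.Agent.StdO8.Code Cfsg.Agent.H612.Ore
open Cfsg.Agent.H201.O8 (act8 reps cover cd dec_cd cd_dec mem_basis)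
open Cfsg.Agent.H935.OreO8 (reps_len rep39 rep_cols odd_notMem)
open Cfsg.Agent.LieClassical.OrthCore Cfsg.Agent.LieClassical.OrthFinite
open Cfsg.Agent.H6.ORE (CZ)

/-- the check of one code -/
def chk7 (c : ℕ) : Bool := (List.range 8).all fun i =>
  Nat.beq (apc 8 c (apc 8 c (apc 8 c (apc 8 c (apc 8 c (apc 8 c (apc 8 c (2 ^ i)))))))) (2 ^ i)

theorem pow7_of_chk {g : O8} {c : ℕ} (h : act8.Rep g c) (hc : chk7 c = true) : g ^ 7 = 1 := by
  have hs : ∀ (x : V), (g ^ 7 : O8) • x = (g : V ≃ₗ[ZMod 2] V) ((g : V ≃ₗ[ZMod 2] V) ((g : V ≃ₗ[ZMod 2] V)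
      ((g : V ≃ₗ[ZMod 2] V) ((g : V ≃ₗ[ZMod 2] V) ((g : V ≃ₗ[ZMod 2] V) ((g : V ≃ₗ[ZMod 2] V) x)))))) := fun x => rfl
  apply Subtype.ext
  apply lin_ext
  intro b hb
  obtain ⟨i, hi, rfl⟩ := mem_basis hb
  have hi' : 2 ^ i < 256 := two_pow_lt (n := 8) hi
  obtain ⟨e1, l1⟩ := dec_ap h hi'
  obtain ⟨e2, l2⟩ := dec_ap h l1
  obtain ⟨e3, l3⟩ := dec_ap h l2
  obtain ⟨e4, l4⟩ := dec_ap h l3
  obtain ⟨e5, l5⟩ := dec_ap h l4
  obtain ⟨e6, l6⟩ := dec_ap h l5
  obtain ⟨e7, -⟩ := dec_ap h l6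
  have hb := Nat.eq_of_beq_eq_true (List.all_eq_true.1 hc i (List.mem_range.2 hi))
  refine (hs (dec (2 ^ i))).trans ?_
  rw [e1, e2, e3, e4, e5, e6, e7]
  exact congrArg dec hb

/-- the pairs -/
def pairs7 : List (ℕ × ℕ) := [
  (4802161456296084312, 2317617841431708008),
  (945766592074924289, 9313832416682147488),
  (17112476788739009504, 4662114857865786145),
  (11483969859290157570, 16194187843095645133),
  (8563997781617098681, 15669012323716943199),
  (16596558757757667541, 17519520617693039749),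
  (2431460507635973697, 807287393036618044),
  (17953977361630063019, 12333366735687791681),
  (5332899262163111169, 495525757779373078),
  (2372474827085292632, 11502351828982295120),
  (2062420945532905899, 13866654034412293811),
  (6772434080495624224, 991637617117058508),
  (13977308576429299094, 7016688764430155911),
  (14897922674317057218, 13690829720690363126),
  (709633624234316361, 16929175794451652719),
  (6127790640077925350, 8564145653640044970),
  (14732731506493542337, 118678141602359215),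
  (2660196966805272175, 2992404649457602766),
  (13393173283667200629, 7375394329407399107),
  (12676910528747136942, 16587793522453176632),
  (16991552097457779511, 13893882212576886832),
  (16936768929389689655, 7414638392440063878),
  (795625176698848773, 1036314800944890049),
  (13671105738102413334, 2937362082678090390),
  (4607264790645320121, 9416982031370612093),
  (6377492879473149062, 2070907539661315324),
  (1173926799174810848, 2215419857783194992),
  (938685598440134381, 17766773933433277771),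
  (9229636098454562243, 2422852723989870162),
  (9562290430582260532, 12909827165536930173),
  (9239082486246449632, 361555314450083718),
  (1731665051149103118, 4756443701749530947),
  (535793143434469842, 2606502370768289285),
  (6991566000376822281, 601896173656412760),
  (11826769298701172584, 12323182391720225833),
  (5281297440301187788, 13982553219550689039),
  (8697630264252370435, 4842297018223484526),
  (11577329700029402090, 7468110351928433434),
  (8340893827183537263, 8002462767669300929)]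

theorem pairs7_ok : ((List.range 39).all fun k =>
    let p := pairs7.getD k (0, 0)
    let r := reps.getD k 0
    isom 8 Bn qn p.1 && isom 8 Bn qn p.2 && chk7 p.1 && chk7 p.2 &&
      (List.range 8).all fun i => Nat.beq (apc 8 p.1 (col 8 p.2 i)) (col 8 r i)) = true := by
  decide +kernel

/-- **Every non-trivial element is a product of two elements of order seven.** -/
theorem pair7 {l : O8} (hl : (l : V ≃ₗ[ZMod 2] V) ∈ Om) (h1 : l ≠ 1) : ∃ a b : O8, l = a * b ∧ a ^ 7 = 1 ∧ b ^ 7 = 1 := by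
  obtain ⟨r, hr, h, x, hx, e⟩ := cover l
  obtain ⟨i, hi, hri⟩ := List.mem_iff_getElem.1 hr
  have hget : ∀ d, reps.getD i d = r := fun d => by rw [List.getD_eq_getElem _ _ hi, hri]
  rw [reps_len] at hi
  have e1 : x = h⁻¹ * l * h := by rw [e]; group
  have hxO : (x : V ≃ₗ[ZMod 2] V) ∈ Om := by
    rw [e1]
    have := (Cfsg.Agent.StdO8.Aut.cj h⁻¹ ⟨(l : V ≃ₗ[ZMod 2] V), hl⟩).2
    rw [Cfsg.Agent.StdO8.Aut.cj_coe] at this
    simpa using this
  rcases lt_or_ge i 39 with h2 | h2
  · have h3 := List.all_eq_true.1 pairs7_ok i (List.mem_range.2 h2)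
    dsimp only at h3
    rw [hget, Bool.and_eq_true, Bool.and_eq_true, Bool.and_eq_true, Bool.and_eq_true] at h3
    generalize pairs7.getD i (0, 0) = p at h3
    obtain ⟨⟨⟨⟨k1, k2⟩, k3⟩, k4⟩, k5⟩ := h3
    obtain ⟨a, ha⟩ := act8.exists_rep k1
    obtain ⟨b, hb⟩ := act8.exists_rep k2
    have hab : x = a * b := by
      apply act8.ext
      intro j hj
      rw [act8.mul _ _ _ (two_pow_lt hj), hb j hj, act8.ap_eq ha (col_lt 8 _ _), hx j hj]
      exact (Nat.eq_of_beq_eq_true (List.all_eq_true.1 k5 j (List.mem_range.2 hj))).symm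
    refine ⟨h * a * h⁻¹, h * b * h⁻¹, ?_, ?_, ?_⟩
    · rw [e, hab]; group
    · rw [conj_pow, pow7_of_chk ha k3, mul_one, mul_inv_cancel]
    · rw [conj_pow, pow7_of_chk hb k4, mul_one, mul_inv_cancel]
  · exfalso
    rcases eq_or_lt_of_le h2 with h3 | h3
    · apply h1
      subst h3
      have e5 : (x : V ≃ₗ[ZMod 2] V) = 1 := by
        apply lin_ext
        intro b hb
        obtain ⟨j, hj, rfl⟩ := mem_basis hb
        rw [rep_cols hx hj, ← hget 0, eq_of_beq (List.all_eq_true.1 rep39 j (List.mem_range.2 hj))]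
        rfl
      have e6 : x = 1 := Subtype.ext e5
      rw [e, e6, mul_one, mul_inv_cancel]
    · rw [← hget 0] at hx
      exact absurd hxO (odd_notMem h3 hi hx)

variable {G : Type*} [Group G] [Finite G] {Q : Subgroup G} {z : G}

theorem mem_Om_of_seven {a : V ≃ₗ[ZMod 2] V} (ha : a ∈ O8) (h7 : a ^ 7 = 1) : a ∈ Om := by
  have hi : (Om.subgroupOf O8).index = 2 := by
    have h1 := (Om.subgroupOf O8).card_mul_index
    rw [Nat.card_congr (Subgroup.subgroupOfEquivOfLe Om_le_O8).toEquiv, card_Om, card_O8] at h1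
    omega
  have h2 : (⟨a, ha⟩ ^ 4 * ⟨a, ha⟩ ^ 4 : O8) ∈ Om.subgroupOf O8 := Subgroup.mul_self_mem_of_index_two hi _
  have h3 : a ^ 4 * a ^ 4 ∈ Om := h2
  rwa [← pow_add, show 4 + 4 = 7 + 1 by norm_num, pow_succ, h7, one_mul] at h3

/-- **Every element of `C(z)` outside `Q` is a product of two elements of orders `7 * 2 ^ k`.** -/
theorem prod_seven (h : Large Q z) (L : h.V ≃ₗ[ZMod 2] V) (hL : ∀ v, h.q v = Cfsg.quadFormPlus 4 (ZMod 2) (L v))
    (hp : commutator (CZ z) = ⊤) (hQ : Nat.card Q = 2 ^ 9) (hC : 89181388800 ≤ Nat.card (CZ z))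
    {x : G} (hx : x * z = z * x) (hxQ : x ∉ Q) :
    ∃ a b : CZ z, x = a * b ∧ (∃ k, a ^ (7 * 2 ^ k) = 1) ∧ ∃ k, b ^ (7 * 2 ^ k) = 1 := by
  set c : CZ z := ⟨x, Subgroup.mem_centralizer_singleton_iff.2 hx⟩ with hc
  have hr := range_phi h L hL hp hQ hC
  have hcO : phi h L c ∈ Om := by rw [← hr]; exact ⟨c, rfl⟩
  have hl1 : (⟨phi h L c, Om_le_O8 hcO⟩ : O8) ≠ 1 := by
    intro e
    apply hxQ
    have e1 : phi h L c = 1 := congrArg Subtype.val e
    rw [← MonoidHom.mem_ker, ker_phi h L, Subgroup.mem_subgroupOf] at e1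
    exact e1
  obtain ⟨a, b, hab, ha7, hb7⟩ := pair7 (l := ⟨phi h L c, Om_le_O8 hcO⟩) hcO hl1
  have ha7' : (a : V ≃ₗ[ZMod 2] V) ^ 7 = 1 := congrArg Subtype.val ha7
  have hb7' : (b : V ≃ₗ[ZMod 2] V) ^ 7 = 1 := congrArg Subtype.val hb7
  have haO := mem_Om_of_seven a.2 ha7'
  rw [← hr] at haO
  obtain ⟨a', ha'⟩ := haO
  have hpg : IsPGroup 2 (Q.subgroupOf (CZ z)) := by
    refine IsPGroup.of_card (n := 9) ?_
    rw [← hQ]
    exact Nat.card_congr (Subgroup.subgroupOfEquivOfLe (Cfsg.Agent.LargeExtra.Nine.ToCent.le_cent h)).toEquiv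
  have key : ∀ {w : CZ z} {s : V ≃ₗ[ZMod 2] V}, phi h L w = s → s ^ 7 = 1 → ∃ k, w ^ (7 * 2 ^ k) = 1 := by
    intro w s hw hs
    have h6 : w ^ 7 ∈ Q.subgroupOf (CZ z) := by
      rw [← ker_phi h L, MonoidHom.mem_ker, map_pow, hw, hs]
    obtain ⟨k, hk⟩ := hpg ⟨w ^ 7, h6⟩
    refine ⟨k, ?_⟩
    rw [pow_mul]
    exact congrArg Subtype.val hk
  refine ⟨a', a'⁻¹ * c, ?_, key ha' ha7', key (s := b) ?_ hb7'⟩
  · rw [← Subgroup.coe_mul, mul_inv_cancel_left]
  · rw [map_mul, map_inv, ha']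
    have e : phi h L c = (a : V ≃ₗ[ZMod 2] V) * b := congrArg Subtype.val hab
    rw [e, inv_mul_cancel_left]

end Cfsg.Agent.H334.O8
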