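import Cfsg.Agent.H334.O8.Pairs
import Cfsg.Agent.H323.Pw.Coset
import Cfsg.Agent.H6.ORE.LargeOre
import Cfsg.Agent.H813.OmegaCent

/-!
# Centralisers `2^(1+8).Ω⁺(8,2)`: products of two elements of order five (helper334)

`prod_five` : every element of `C(z)` outside `Q` is a product of two elements of order five (or one) of `C(z)` without fixed
points on `Q/⟨z⟩`.
-/

set_option autoImplicit false

namespace Cfsg.Agent.H334.O8

open Cfsg Cfsg.Agent.Co2Type.Quad
open Cfsg.Agent.StdO8.Model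
open Cfsg.Agent.LieClassical.OrthCore Cfsg.Agent.LieClassical.OrthFinite
open Cfsg.Agent.H6.ORE (CZ zC ES FPz es_of_large)
open Cfsg.Agent.H323.Pw (FixZ)

variable {G : Type*} [Group G] [Finite G] {Q : Subgroup G} {z : G}

/-- the action in coordinates -/
noncomputable def phi (h : Large Q z) (L : h.V ≃ₗ[ZMod 2] V) : CZ z →* (V ≃ₗ[ZMod 2] V) where
  toFun c := L.symm.trans ((h.act c).trans L)
  map_one' := by
    apply LinearEquiv.ext
    intro v
    show L (h.act 1 (L.symm v)) = v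
    rw [map_one]
    exact L.apply_symm_apply v
  map_mul' c d := by
    apply LinearEquiv.ext
    intro v
    show L (h.act (c * d) (L.symm v)) = L (h.act c (L.symm (L (h.act d (L.symm v)))))
    rw [map_mul, LinearEquiv.symm_apply_apply]
    rfl

omit [Finite G] in
theorem phi_apply (h : Large Q z) (L : h.V ≃ₗ[ZMod 2] V) (c : CZ z) (v : V) :
    phi h L c v = L (h.act c (L.symm v)) := rfl

theorem ker_phi (h : Large Q z) (L : h.V ≃ₗ[ZMod 2] V) : (phi h L).ker = Q.subgroupOf (CZ z) := by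
  ext c
  rw [MonoidHom.mem_ker, Subgroup.mem_subgroupOf]
  constructor
  · intro h0
    have hfin : Finite Q := inferInstance
    apply h.mem_of_act c
    apply LinearEquiv.ext
    intro v
    have h2 := phi_apply h L c (L v)
    rw [h0, LinearEquiv.symm_apply_apply] at h2
    exact (L.injective h2).symm
  · intro h0
    apply LinearEquiv.ext
    intro v
    rw [phi_apply, h.act_mem _ h0]
    exact L.apply_symm_apply v

omit [Finite G] in
theorem phi_mem (h : Large Q z) (L : h.V ≃ₗ[ZMod 2] V) (hL : ∀ v, h.q v = Cfsg.quadFormPlus 4 (ZMod 2) (L v))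
    (c : CZ z) : phi h L c ∈ O8 := by
  rw [mem_O8]
  intro v
  have e : ∀ v : V, q v = Cfsg.quadFormPlus 4 (ZMod 2) v := fun v => by
    rw [← Cfsg.Agent.LieClassical.QuadForms.coe_plusForm]
  rw [e, e, phi_apply, ← hL, h.q_act, hL, LinearEquiv.apply_symm_apply]

theorem card_Om : Nat.card Om = 174182400 := by
  have e3 : Cfsg.Agent.CoOneNWC.OmFacts.Om8 ≃* Om := by
    show Cfsg.Omega (ZMod 2) (Cfsg.quadFormPlus 4 (ZMod 2)) ≃* Om
    rw [← Cfsg.Agent.LieClassical.QuadForms.coe_plusForm]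
    exact Cfsg.Agent.AutOrth.Main.oe good
  rw [← Nat.card_congr e3.toEquiv]
  exact Cfsg.Agent.CoOneNWC.OmFacts.card_om8

theorem card_O8 : Nat.card O8 = 348364800 := by
  have e3 : Cfsg.isometryGroup (ZMod 2) (Cfsg.quadFormPlus 4 (ZMod 2)) ≃* O8 := by
    rw [← Cfsg.Agent.LieClassical.QuadForms.coe_plusForm]
    exact isometryEquiv q
  rw [← Nat.card_congr e3.toEquiv]
  exact Cfsg.Agent.CoOneNWC.OmFacts.card_isometryGroup

theorem Om_le_O8 : Om ≤ O8 := Om_le

/-- elements of odd order lie in `Om` -/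
theorem mem_Om_of_F5 {a : V ≃ₗ[ZMod 2] V} (ha : a ∈ O8) (h5 : F5 a) : a ∈ Om := by
  have hi : (Om.subgroupOf O8).index = 2 := by
    have h1 := (Om.subgroupOf O8).card_mul_index
    rw [Nat.card_congr (Subgroup.subgroupOfEquivOfLe Om_le_O8).toEquiv, card_Om, card_O8] at h1
    omega
  have h2 : (⟨a, ha⟩ ^ 3 * ⟨a, ha⟩ ^ 3 : O8) ∈ Om.subgroupOf O8 := Subgroup.mul_self_mem_of_index_two hi _
  have h3 : a ^ 3 * a ^ 3 ∈ Om := h2
  rwa [← pow_add, show 3 + 3 = 5 + 1 by norm_num, pow_succ, h5.pow, one_mul] at h3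

theorem range_phi (h : Large Q z) (L : h.V ≃ₗ[ZMod 2] V) (hL : ∀ v, h.q v = Cfsg.quadFormPlus 4 (ZMod 2) (L v))
    (hp : commutator (CZ z) = ⊤) (hQ : Nat.card Q = 2 ^ 9) (hC : 89181388800 ≤ Nat.card (CZ z)) :
    (phi h L).range = Om := by
  have h0 : (phi h L).range ≤ Om := by
    rw [show Om = ⁅O q, O q⁆ from good.commutator_eq_E.symm, MonoidHom.range_eq_map, ← hp, commutator_def,
      Subgroup.map_commutator]
    refine Subgroup.commutator_mono ?_ ?_ <;>
    · rintro _ ⟨c, -, rfl⟩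
      exact phi_mem h L hL c
  have hker : Nat.card (phi h L).ker = 2 ^ 9 := by
    rw [ker_phi h L, ← hQ]
    exact Nat.card_congr (Subgroup.subgroupOfEquivOfLe (Cfsg.Agent.LargeExtra.Nine.ToCent.le_cent h)).toEquiv
  have hcard : 174182400 ≤ Nat.card (phi h L).range := by
    have h1 := Subgroup.card_eq_card_quotient_mul_card_subgroup (phi h L).ker
    have h2 : Nat.card (CZ z ⧸ (phi h L).ker) = Nat.card (phi h L).range :=
      Nat.card_congr (QuotientGroup.quotientKerEquivRange _).toEquiv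
    rw [hker, h2] at h1
    rw [h1] at hC
    omega
  have hfin : Finite Om := Nat.finite_of_card_ne_zero (by rw [card_Om]; norm_num)
  exact Subgroup.eq_of_le_of_card_ge h0 (by rw [card_Om]; exact hcard)

omit [Finite G] in
/-- an element of order five without fixed points: the fixed elements modulo `z` -/
theorem fix_of_F5 (h : Large Q z) (L : h.V ≃ₗ[ZMod 2] V) {a : CZ z} (ha : F5 (phi h L a)) {y : CZ z}
    (hy : y ∈ Q.subgroupOf (CZ z)) (hf : a * y * a⁻¹ = y ∨ a * y * a⁻¹ = y * zC z) : y = 1 ∨ y = zC z := by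
  set y' : Q := ⟨y, hy⟩ with hy'
  have h1 : h.act a (h.pr y') = h.pr y' := by
    rw [h.act_pr, h.pr_eq_pr]
    show (a : G) * (y : G) * (a : G)⁻¹ = (y : G) ∨ (a : G) * (y : G) * (a : G)⁻¹ = (y : G) * z
    rcases hf with e | e
    · left; exact congrArg Subtype.val e
    · right; exact congrArg Subtype.val e
  have h2 : phi h L a (L (h.pr y')) = L (h.pr y') := by
    rw [phi_apply, LinearEquiv.symm_apply_apply, h1]
  have h3 := ha.fpf h2
  rw [LinearEquiv.map_eq_zero_iff, h.pr_eq_zero] at h3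
  rcases h3 with e | e
  · exact Or.inl (Subtype.ext e)
  · exact Or.inr (Subtype.ext e)

theorem card_FixZ (h : Large Q z) (L : h.V ≃ₗ[ZMod 2] V) {a : CZ z} (ha : F5 (phi h L a)) :
    Nat.card (FixZ (Q.subgroupOf (CZ z)) (zC z) a) ≤ 2 := by
  let f : FixZ (Q.subgroupOf (CZ z)) (zC z) a → Bool := fun y => by classical exact decide ((y.1 : CZ z) = 1)
  have hf : Function.Injective f := by
    intro y y' hyy
    have h1 := fix_of_F5 h L ha y.1.2 y.2
    have h2 := fix_of_F5 h L ha y'.1.2 y'.2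
    have h3 : ((y.1 : CZ z) = 1 ↔ (y'.1 : CZ z) = 1) := by
      have := decide_eq_decide.1 (show (by classical exact decide ((y.1 : CZ z) = 1) : Bool) =
        (by classical exact decide ((y'.1 : CZ z) = 1) : Bool) from hyy)
      exact this
    apply Subtype.ext
    apply Subtype.ext
    by_cases h4 : (y.1 : CZ z) = 1
    · rw [h4, h3.1 h4]
    · rw [h1.resolve_left h4, h2.resolve_left (fun e => h4 (h3.2 e))]
  have h5 := Nat.card_le_card_of_injective f hf
  rwa [show Nat.card Bool = 2 by simp] at h5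

/-- **Every element of `C(z)` outside `Q` is a product of two elements `a`, `b` with `a ^ 5 = b ^ 5 = 1`.** -/
theorem prod_five (h : Large Q z) (L : h.V ≃ₗ[ZMod 2] V) (hL : ∀ v, h.q v = Cfsg.quadFormPlus 4 (ZMod 2) (L v))
    (hp : commutator (CZ z) = ⊤) (hQ : Nat.card Q = 2 ^ 9) (hC : 89181388800 ≤ Nat.card (CZ z))
    {x : G} (hx : x * z = z * x) (hxQ : x ∉ Q) :
    ∃ a b : CZ z, x = a * b ∧ a ^ 5 = 1 ∧ b ^ 5 = 1 ∧ F5 (phi h L a) ∧ F5 (phi h L b) := by
  set c : CZ z := ⟨x, Subgroup.mem_centralizer_singleton_iff.2 hx⟩ with hc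
  have hr := range_phi h L hL hp hQ hC
  have hcO : phi h L c ∈ Om := by rw [← hr]; exact ⟨c, rfl⟩
  have hl1 : (⟨phi h L c, Om_le_O8 hcO⟩ : O8) ≠ 1 := by
    intro e
    apply hxQ
    have e1 : phi h L c = 1 := congrArg Subtype.val e
    rw [← MonoidHom.mem_ker, ker_phi h L, Subgroup.mem_subgroupOf] at e1
    exact e1
  obtain ⟨a, b, hab, ha5, hb5⟩ := pair (l := ⟨phi h L c, Om_le_O8 hcO⟩) hcO hl1
  have haO := mem_Om_of_F5 a.2 ha5
  have hbO := mem_Om_of_F5 b.2 hb5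
  rw [← hr] at haO hbO
  obtain ⟨a', ha'⟩ := haO
  obtain ⟨b', hb'⟩ := hbO
  have hE := es_of_large h
  have hpg : IsPGroup 2 (Q.subgroupOf (CZ z)) := by
    refine IsPGroup.of_card (n := 9) ?_
    rw [← hQ]
    exact Nat.card_congr (Subgroup.subgroupOfEquivOfLe (Cfsg.Agent.LargeExtra.Nine.ToCent.le_cent h)).toEquiv
  have hex : ∀ y ∈ Q.subgroupOf (CZ z), ∃ m : ℕ, y ^ 2 ^ m = 1 := by
    intro y hy
    obtain ⟨k, hk⟩ := hpg ⟨y, hy⟩
    exact ⟨k, congrArg Subtype.val hk⟩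
  have lift : ∀ {w : CZ z} {s : O8}, phi h L w = (s : V ≃ₗ[ZMod 2] V) → F5 (s : V ≃ₗ[ZMod 2] V) →
      ∃ w' : CZ z, phi h L w' = (s : V ≃ₗ[ZMod 2] V) ∧ w' ^ 5 = 1 := by
    intro w s hw hs
    have h5 : (orderOf (phi h L w)).Coprime 2 := by
      rw [hw]
      exact Nat.Coprime.of_dvd_left (orderOf_dvd_of_pow_eq_one hs.pow) (by norm_num)
    obtain ⟨y, hy, ho⟩ := Cfsg.Agent.H323.Pw.exists_lift (phi h L) (ker_phi h L) hex h5
    have hy1 : phi h L y = 1 := by rw [← MonoidHom.mem_ker, ker_phi h L]; exact hy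
    have hw' : phi h L (w * y) = (s : V ≃ₗ[ZMod 2] V) := by rw [map_mul, hy1, mul_one, hw]
    refine ⟨w * y, hw', ?_⟩
    have h6 : (w * y) ^ 5 ∈ Q.subgroupOf (CZ z) := by
      rw [← ker_phi h L, MonoidHom.mem_ker, map_pow, hw', hs.pow]
    obtain ⟨m, hm⟩ := hex _ h6
    have h7 : orderOf ((w * y) ^ 5) ∣ 2 ^ m := orderOf_dvd_of_pow_eq_one hm
    have h8 : orderOf ((w * y) ^ 5) ∣ orderOf (w * y) := orderOf_pow_dvd 5
    have h9 : orderOf ((w * y) ^ 5) = 1 :=
      Nat.eq_one_of_dvd_coprimes (ho.pow_right m) h8 h7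
    exact orderOf_eq_one_iff.1 h9
  obtain ⟨a₁, ha₁, ha₁5⟩ := lift ha' ha5
  obtain ⟨b₁, hb₁, hb₁5⟩ := lift hb' hb5
  have hFa : F5 (phi h L a₁) := by rw [ha₁]; exact ha5
  have hFb : F5 (phi h L b₁) := by rw [hb₁]; exact hb5
  have hab1 : phi h L (a₁ * b₁) = phi h L c := by
    rw [map_mul, ha₁, hb₁]
    exact (congrArg Subtype.val hab).symm
  have hm : (a₁ * b₁)⁻¹ * c ∈ Q.subgroupOf (CZ z) := by
    rw [← ker_phi h L, MonoidHom.mem_ker, map_mul, map_inv, hab1, inv_mul_cancel]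
  have hfp : FPz (Q.subgroupOf (CZ z)) (zC z) a₁ b₁ := by
    apply Cfsg.Agent.H6.ORE.FPz.of_fix hE
    intro y hy hya _
    exact fix_of_F5 h L hFa hy hya
  have hlt : Nat.card (FixZ (Q.subgroupOf (CZ z)) (zC z) (a₁ * b₁)) < Nat.card (Q.subgroupOf (CZ z)) := by
    obtain ⟨v, hv⟩ : ∃ v, phi h L (a₁ * b₁) v ≠ v := by
      by_contra hno
      push Not at hno
      apply hl1
      apply Subtype.ext
      show phi h L c = 1
      rw [← hab1]
      exact LinearEquiv.ext hno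
    obtain ⟨y, hy⟩ := h.pr_surjective (L.symm v)
    have hyC : (y : G) ∈ CZ z := Subgroup.mem_centralizer_singleton_iff.2 (h.comm_z y y.2)
    refine Finite.card_subtype_lt (α := Q.subgroupOf (CZ z)) (x := ⟨⟨y, hyC⟩, y.2⟩) ?_
    intro h1
    apply hv
    have h2 : h.act (a₁ * b₁) (h.pr y) = h.pr y := by
      rw [h.act_pr, h.pr_eq_pr]
      show ((a₁ * b₁ : CZ z) : G) * (y : G) * ((a₁ * b₁ : CZ z) : G)⁻¹ = (y : G) ∨
        ((a₁ * b₁ : CZ z) : G) * (y : G) * ((a₁ * b₁ : CZ z) : G)⁻¹ = (y : G) * z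
      rcases h1 with e | e
      · left; exact congrArg Subtype.val e
      · right; exact congrArg Subtype.val e
    rw [phi_apply, ← hy, h2, hy, LinearEquiv.apply_symm_apply]
  have hfinQ : Finite (Q.subgroupOf (CZ z)) := inferInstance
  obtain ⟨u, -, w, -, e⟩ := Cfsg.Agent.H323.Pw.ES.prod_step hE hfp hm (by
    have h1 := card_FixZ h L hFa
    have h2 := card_FixZ h L hFb
    calc Nat.card (FixZ (Q.subgroupOf (CZ z)) (zC z) a₁) * Nat.card (FixZ (Q.subgroupOf (CZ z)) (zC z) b₁) *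
          Nat.card (FixZ (Q.subgroupOf (CZ z)) (zC z) (a₁ * b₁))
        ≤ 2 * 2 * Nat.card (FixZ (Q.subgroupOf (CZ z)) (zC z) (a₁ * b₁)) :=
          Nat.mul_le_mul_right _ (Nat.mul_le_mul h1 h2)
      _ < 4 * Nat.card (Q.subgroupOf (CZ z)) := by omega)
  rw [mul_inv_cancel_left] at e
  refine ⟨u * a₁ * u⁻¹, w * b₁ * w⁻¹, ?_, ?_, ?_, ?_, ?_⟩
  · exact (congrArg Subtype.val e).symm
  · rw [conj_pow, ha₁5, mul_one, mul_inv_cancel]
  · rw [conj_pow, hb₁5, mul_one, mul_inv_cancel]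
  · rw [map_mul, map_mul, map_inv]
    exact hFa.conj _
  · rw [map_mul, map_mul, map_inv]
    exact hFb.conj _

end Cfsg.Agent.H334.O8
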