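import Cfsg.Agent.H935.OreO8.Main

/-!
# `Ω₈⁺(2)`: every non-trivial element is a product of two elements of order five without fixed points (helper334)

`F5 a` : `1 + a + a² + a³ + a⁴ = 0` on the natural module (so `a ^ 5 = 1` and `a` fixes no non-zero vector).
-/

set_option autoImplicit false

namespace Cfsg.Agent.H334.O8

open Cfsg.Agent.StdO8.Model Cfsg.Agent.StdO8.Code Cfsg.Agent.H612.Ore
open Cfsg.Agent.H201.O8 (act8 reps cover cd dec_cd cd_dec mem_basis)
open Cfsg.Agent.H935.OreO8 (reps_len rep39 rep_cols odd_notMem)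

/-- `1 + a + a² + a³ + a⁴ = 0` -/
def F5 (a : V ≃ₗ[ZMod 2] V) : Prop := ∀ v : V, v + a v + a (a v) + a (a (a v)) + a (a (a (a v))) = 0

theorem F5.pow {a : V ≃ₗ[ZMod 2] V} (h : F5 a) : a ^ 5 = 1 := by
  apply LinearEquiv.ext
  intro v
  have h1 := h v
  have h2 := h (a v)
  have two : ∀ x : V, x + x = 0 := fun x => by
    have : (2 : ZMod 2) • x = 0 := by rw [show (2 : ZMod 2) = 0 from rfl, zero_smul]
    rwa [two_smul] at this
  have h3 : v + a (a (a (a (a v)))) = 0 := by
    have h4 : (v + a v + a (a v) + a (a (a v)) + a (a (a (a v)))) +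
        (a v + a (a v) + a (a (a v)) + a (a (a (a v))) + a (a (a (a (a v))))) = 0 := by rw [h1, h2, add_zero]
    have h5 : (v + a v + a (a v) + a (a (a v)) + a (a (a (a v)))) +
        (a v + a (a v) + a (a (a v)) + a (a (a (a v))) + a (a (a (a (a v))))) =
        v + a (a (a (a (a v)))) + (a v + a v) + (a (a v) + a (a v)) + (a (a (a v)) + a (a (a v))) +
          (a (a (a (a v))) + a (a (a (a v)))) := by abel
    rw [h5, two, two, two, two, add_zero, add_zero, add_zero, add_zero] at h4
    exact h4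
  have h6 : a (a (a (a (a v)))) = v := by
    have h7 := congrArg (fun x => v + x) h3
    simpa [← add_assoc, two] using h7
  rw [pow_succ, pow_succ, pow_succ, pow_succ, pow_one]
  exact h6

theorem F5.fpf {a : V ≃ₗ[ZMod 2] V} (h : F5 a) {v : V} (hv : a v = v) : v = 0 := by
  have h1 := h v
  have two : v + v = 0 := by
    have : (2 : ZMod 2) • v = 0 := by rw [show (2 : ZMod 2) = 0 from rfl, zero_smul]
    rwa [two_smul] at this
  rw [hv, hv, hv, hv, two, zero_add, two, zero_add] at h1
  exact h1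

theorem F5.conj {a : V ≃ₗ[ZMod 2] V} (h : F5 a) (g : V ≃ₗ[ZMod 2] V) : F5 (g * a * g⁻¹) := by
  intro v
  have e : ∀ x : V, (g * a * g⁻¹) x = g (a (g⁻¹ x)) := fun _ => rfl
  have e1 : ∀ x : V, g⁻¹ (g x) = x := fun x => g.symm_apply_apply x
  have e2 : ∀ x : V, g (g⁻¹ x) = x := fun x => g.apply_symm_apply x
  have h1 := congrArg g (h (g⁻¹ v))
  rw [map_zero, map_add, map_add, map_add, map_add, e2] at h1
  rw [e, e, e1, e, e1, e, e1]
  exact h1

theorem add_hom_ext {D : V → V} (hD : ∀ x y, D (x + y) = D x + D y) (h0 : ∀ i < 8, D (dec (2 ^ i)) = 0) (x : V) :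
    D x = 0 := by
  ext k
  exact Cfsg.Agent.H201.O8.add_ext (D := fun x => D x k) (fun x y => by rw [hD]; rfl) (fun i hi => by rw [h0 i hi]; rfl) x

/-- the check of one code -/
def chk5 (c : ℕ) : Bool := (List.range 8).all fun i =>
  let a := apc 8 c (2 ^ i)
  let b := apc 8 c a
  let d := apc 8 c b
  let e := apc 8 c d
  Nat.beq (Nat.xor (Nat.xor (Nat.xor (Nat.xor (2 ^ i) a) b) d) e) 0

theorem dec_ap {g : O8} {c : ℕ} (h : act8.Rep g c) {v : ℕ} (hv : v < 256) :
    (g : V ≃ₗ[ZMod 2] V) (dec v) = dec (apc 8 c v) ∧ apc 8 c v < 256 := by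
  have h1 := act8.ap_eq h (v := v) hv
  rw [Cfsg.Agent.H201.O8.act8_ap] at h1
  refine ⟨?_, ?_⟩
  · rw [← h1, dec_cd]
  · rw [← h1]; exact Cfsg.Agent.H201.O8.cd_lt _

theorem F5_of_chk {g : O8} {c : ℕ} (h : act8.Rep g c) (hc : chk5 c = true) : F5 (g : V ≃ₗ[ZMod 2] V) := by
  intro v
  refine add_hom_ext (D := fun v => v + (g : V ≃ₗ[ZMod 2] V) v + (g : V ≃ₗ[ZMod 2] V) ((g : V ≃ₗ[ZMod 2] V) v) +
    (g : V ≃ₗ[ZMod 2] V) ((g : V ≃ₗ[ZMod 2] V) ((g : V ≃ₗ[ZMod 2] V) v)) +
    (g : V ≃ₗ[ZMod 2] V) ((g : V ≃ₗ[ZMod 2] V) ((g : V ≃ₗ[ZMod 2] V) ((g : V ≃ₗ[ZMod 2] V) v)))) ?_ ?_ v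
  · intro x y
    simp only [map_add]
    abel
  · intro i hi
    have hi' : 2 ^ i < 256 := two_pow_lt (n := 8) hi
    obtain ⟨e1, l1⟩ := dec_ap h hi'
    obtain ⟨e2, l2⟩ := dec_ap h l1
    obtain ⟨e3, l3⟩ := dec_ap h l2
    obtain ⟨e4, -⟩ := dec_ap h l3
    have hb := Nat.eq_of_beq_eq_true (List.all_eq_true.1 hc i (List.mem_range.2 hi))
    show dec (2 ^ i) + (g : V ≃ₗ[ZMod 2] V) (dec (2 ^ i)) + (g : V ≃ₗ[ZMod 2] V) ((g : V ≃ₗ[ZMod 2] V) (dec (2 ^ i))) +
      (g : V ≃ₗ[ZMod 2] V) ((g : V ≃ₗ[ZMod 2] V) ((g : V ≃ₗ[ZMod 2] V) (dec (2 ^ i)))) +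
      (g : V ≃ₗ[ZMod 2] V) ((g : V ≃ₗ[ZMod 2] V) ((g : V ≃ₗ[ZMod 2] V) ((g : V ≃ₗ[ZMod 2] V) (dec (2 ^ i))))) = 0
    rw [e1, e2, e3, e4, ← dec_xor, ← dec_xor, ← dec_xor, ← dec_xor]
    exact (congrArg dec hb).trans dec_zero

/-- the pairs -/
def pairs : List (ℕ × ℕ) := [
  (12340202080783565067, 13337481078196778923),
  (9422540505057460547, 15806949654251448340),
  (4554016871975814080, 15850987510116883323),
  (17071791847071569247, 12543725358717783901),
  (337533037909776055, 518155713352716392),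
  (2947581944418290106, 14855425389450045477),
  (10855218287907082909, 14105412631788915964),
  (8507326565965488188, 2220320238818279147),
  (8350194595675827320, 4648058520689345474),
  (7485043374359241088, 14005552080007395621),
  (1643767528518142438, 9080938015147625424),
  (6995297380655002473, 5944787869393195172),
  (3716300099962489807, 11624380867805228793),
  (13450788568524869826, 9120630167395886996),
  (6998734782378158113, 8066093488605643756),
  (940010864748588185, 9487825670753934876),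
  (15846883628569423776, 9791157200263112672),
  (11933808632020206607, 16029986266022977710),
  (7393211196080243645, 16266581022389414617),
  (6272675508340888591, 17092385632526456071),
  (7615690105699395550, 6756121065400678390),
  (11826567486483898789, 2341099936168933737),
  (11895789764245815020, 11340557407155709491),
  (7016748988352522272, 2990016227868550267),
  (660336792052873629, 11069693481599897455),
  (13943427312477239392, 9513429283279931247),
  (5949453924374233273, 4830769243558265518),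
  (8352727443470007762, 14033231143759003907),
  (18041200119142634767, 1594620650127710176),
  (7449192850553268312, 14798157203930209136),
  (1156014294638280776, 1297765122386150092),
  (7967697898204696750, 10557684594748753044),
  (2989099060120184346, 17569118465732883392),
  (1054253581164323009, 15193409241415384540),
  (13384332309485572110, 8446449114168293100),
  (17777774263074603691, 1010456125034626768),
  (17522937700573322928, 11604263595193531397),
  (2052487351112435718, 14980955884007416063),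
  (13252593376277630218, 9008258569511241471)]

theorem pairs_ok : ((List.range 39).all fun k =>
    let p := pairs.getD k (0, 0)
    let r := reps.getD k 0
    isom 8 Bn qn p.1 && isom 8 Bn qn p.2 && chk5 p.1 && chk5 p.2 &&
      (List.range 8).all fun i => Nat.beq (apc 8 p.1 (col 8 p.2 i)) (col 8 r i)) = true := by
  decide +kernel

/-- **Every non-trivial element is a product of two elements of order five without fixed points.** -/
theorem pair {l : O8} (hl : (l : V ≃ₗ[ZMod 2] V) ∈ Om) (h1 : l ≠ 1) :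
    ∃ a b : O8, l = a * b ∧ F5 (a : V ≃ₗ[ZMod 2] V) ∧ F5 (b : V ≃ₗ[ZMod 2] V) := by
  obtain ⟨r, hr, h, x, hx, e⟩ := cover l
  obtain ⟨i, hi, hri⟩ := List.mem_iff_getElem.1 hr
  have hget : ∀ d, reps.getD i d = r := fun d => by rw [List.getD_eq_getElem _ _ hi, hri]
  rw [reps_len] at hi
  have e1 : x = h⁻¹ * l * h := by rw [e]; group
  have hxO : (x : V ≃ₗ[ZMod 2] V) ∈ Om := by
    rw [e1]
    have := (Cfsg.Agent.StdO8.Aut.cj h⁻¹ ⟨(l : V ≃ₗ[ZMod 2] V), hl⟩).2
    rw [Cfsg.Agent.StdO8.Aut.cj_coe] at this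
    simpa using this
  rcases lt_or_ge i 39 with h2 | h2
  · have h3 := List.all_eq_true.1 pairs_ok i (List.mem_range.2 h2)
    dsimp only at h3
    rw [hget, Bool.and_eq_true, Bool.and_eq_true, Bool.and_eq_true, Bool.and_eq_true] at h3
    generalize pairs.getD i (0, 0) = p at h3
    obtain ⟨⟨⟨⟨k1, k2⟩, k3⟩, k4⟩, k5⟩ := h3
    obtain ⟨a, ha⟩ := act8.exists_rep k1
    obtain ⟨b, hb⟩ := act8.exists_rep k2
    have hab : x = a * b := by
      apply act8.ext
      intro j hj
      rw [act8.mul _ _ _ (two_pow_lt hj), hb j hj, act8.ap_eq ha (col_lt 8 _ _), hx j hj]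
      exact (Nat.eq_of_beq_eq_true (List.all_eq_true.1 k5 j (List.mem_range.2 hj))).symm
    refine ⟨h * a * h⁻¹, h * b * h⁻¹, ?_, ?_, ?_⟩
    · rw [e, hab]; group
    · exact (F5_of_chk ha k3).conj h
    · exact (F5_of_chk hb k4).conj h
  · exfalso
    rcases eq_or_lt_of_le h2 with h3 | h3
    · apply h1
      subst h3
      have e5 : (x : V ≃ₗ[ZMod 2] V) = 1 := by
        apply lin_ext
        intro b hb
        obtain ⟨j, hj, rfl⟩ := mem_basis hb
        rw [rep_cols hx hj, ← hget 0, eq_of_beq (List.all_eq_true.1 rep39 j (List.mem_range.2 hj))]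
        rfl
      have e6 : x = 1 := Subtype.ext e5
      rw [e, e6, mul_one, mul_inv_cancel]
    · rw [← hget 0] at hx
      exact absurd hxO (odd_notMem h3 hi hx)

end Cfsg.Agent.H334.O8
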